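import Cfsg.Agent.Lib.Helper8.M23Idx.Stab
import Cfsg.Agent.Lib.Helper8.M22Idx.SylowCount

/-!
# The subgroups of order 40320 of the stabiliser of a point in `M24`

A subgroup `K` of order 40320 of the stabiliser of a point `x` is, after conjugation, a subgroup of the stabiliser of
`∞` containing the element `z` of order 7; counting Sylow 7-subgroups, `K` contains the normaliser of `⟨z⟩` (of order
42), hence the involution `t`; by the orbit analysis `K` stabilises the duad `{7, 13}` or the octad `o0`, and it is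
the full stabiliser by comparing orders.
-/

set_option autoImplicit false

namespace Cfsg.Agent.Lib.Helper8.M23Idx

open Cfsg Cfsg.Agent.Lib.Helper6.Golay Cfsg.Agent.Lib.Helper6.PermChain Cfsg.Agent.Lib.Helper8.M22Idx
open scoped Pointwise

theorem z_mem_G1 : z ∈ G1 := mem_G1.2 ⟨z_mem, z_fix23⟩

/-- a subgroup of order 40320 of the stabiliser of `∞` containing `z` contains `t` -/
theorem t_mem_of_card (K : Subgroup (Equiv.Perm GolayPt)) (hK : K ≤ G1) (hcard : Nat.card K = 40320)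
    (hz : z ∈ K) : t ∈ K := by
  have : Fact (Nat.Prime 7) := ⟨by norm_num⟩
  obtain ⟨N, n, hNK, hnorm, hmul, hmod, hdvd⟩ :=
    exists_normalizer_count K z hz 7 orderOf_z (by rw [hcard]; norm_num)
  have hsub : (N : Set (Equiv.Perm GolayPt)) ⊆ SZ := by
    intro g hg
    obtain ⟨h1, h2⟩ := mem_G1.1 (hK (hNK hg))
    exact ⟨h1, h2, hnorm g hg⟩
  have hfin : SZ.Finite := Set.toFinite _
  have hc : Nat.card N = (N : Set (Equiv.Perm GolayPt)).ncard := Nat.card_coe_set_eq _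
  have hle : Nat.card N ≤ 42 := by
    rw [hc]
    exact (Set.ncard_le_ncard hsub hfin).trans ncard_SZ_le
  have h42 : Nat.card N = 42 := by
    obtain ⟨c, hc'⟩ := hdvd
    rw [hcard, hc'] at hmul
    rw [hc'] at hle ⊢
    have hmod' : n % 7 = 1 := hmod
    have hc6 : c ≤ 6 := by omega
    interval_cases c <;> omega
  have heq : (N : Set (Equiv.Perm GolayPt)) = SZ :=
    Set.eq_of_subset_of_ncard_le hsub (by rw [← hc, h42]; exact ncard_SZ_le) hfin
  have : t ∈ (N : Set (Equiv.Perm GolayPt)) := by rw [heq]; exact t_mem_SZ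
  exact hNK this

/-- the subgroups of order 40320 of the stabiliser of `∞` containing `z` -/
theorem main_pt23 (K : Subgroup (Equiv.Perm GolayPt)) (hK : K ≤ G1) (hcard : Nat.card K = 40320)
    (hz : z ∈ K) :
    K = G1 ⊓ MulAction.stabilizer (Equiv.Perm GolayPt) s0 ∨
      K = G1 ⊓ MulAction.stabilizer (Equiv.Perm GolayPt) o0 := by
  have ht := t_mem_of_card K hK hcard hz
  rcases core K hK hcard hz ht with h | h
  · left
    apply Subgroup.eq_of_le_of_card_ge
    · intro g hg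
      exact Subgroup.mem_inf.2 ⟨hK hg, MulAction.mem_stabilizer_iff.2 (h g hg)⟩
    · rw [hcard]
      exact card_stab_s0_le
  · right
    apply Subgroup.eq_of_le_of_card_ge
    · intro g hg
      exact Subgroup.mem_inf.2 ⟨hK hg, MulAction.mem_stabilizer_iff.2 (h g hg)⟩
    · rw [hcard]
      exact card_stab_o0_le

theorem card_map_conj (σ : Equiv.Perm GolayPt) (K : Subgroup (Equiv.Perm GolayPt)) :
    Nat.card (K.map (MulAut.conj σ).toMonoidHom) = Nat.card K :=
  Subgroup.card_map_of_injective (MulAut.conj σ).injective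

/-- membership in the conjugated stabiliser -/
theorem conj_mem_iff {ρ : Equiv.Perm GolayPt} (hρ : ρ ∈ M24) {x : GolayPt} (hρx : ρ x = pt 23)
    (a : Finset GolayPt) (g : Equiv.Perm GolayPt) :
    ρ * g * ρ⁻¹ ∈ G1 ⊓ MulAction.stabilizer (Equiv.Perm GolayPt) a ↔
      g ∈ M24 ∧ g x = x ∧ g • (ρ⁻¹ • a) = ρ⁻¹ • a := by
  have hinv : ρ⁻¹ (pt 23) = x := by rw [Equiv.Perm.inv_eq_iff_eq, hρx]
  rw [Subgroup.mem_inf, mem_G1, and_assoc]
  refine and_congr ?_ (and_congr ?_ ?_)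
  · rw [M24.mul_mem_cancel_right (M24.inv_mem hρ), M24.mul_mem_cancel_left hρ]
  · show ρ (g (ρ⁻¹ (pt 23))) = pt 23 ↔ g x = x
    rw [hinv]
    conv_lhs => rw [← hρx]
    exact ρ.injective.eq_iff
  · rw [MulAction.mem_stabilizer_iff, mul_smul, mul_smul, smul_eq_iff_eq_inv_smul]

/-- **the subgroups of order 40320 of the stabiliser of a point of `M24`** -/
theorem main_perm (x : GolayPt) (K : Subgroup (Equiv.Perm GolayPt)) (hK : K ≤ fixL M24 [x])
    (hcard : Nat.card K = 40320) :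
    (∃ s : Finset GolayPt, s.card = 2 ∧ x ∉ s ∧ ∀ g, g ∈ K ↔ g ∈ M24 ∧ g x = x ∧ g • s = s) ∨
      ∃ o ∈ octads, x ∈ o ∧ ∀ g, g ∈ K ↔ g ∈ M24 ∧ g x = x ∧ g • o = o := by
  -- move the point to `∞`
  let e1 : Fin 1 ↪ GolayPt := ⟨fun _ => x, fun i j _ => Subsingleton.elim i j⟩
  let e2 : Fin 1 ↪ GolayPt := ⟨fun _ => pt 23, fun i j _ => Subsingleton.elim i j⟩
  obtain ⟨σ, hσ, hσe⟩ := exists_M24_map (by norm_num) e1 e2
  have hσx : σ x = pt 23 := hσe 0
  set K1 := K.map (MulAut.conj σ).toMonoidHom with hK1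
  have hK1card : Nat.card K1 = 40320 := (card_map_conj σ K).trans hcard
  have hK1le : K1 ≤ G1 := by
    rintro _ ⟨g, hg, rfl⟩
    obtain ⟨h1, h2⟩ := mem_fixL.1 (hK hg)
    have hgx : g x = x := h2 x (by simp)
    rw [mem_G1]
    refine ⟨M24.mul_mem (M24.mul_mem hσ h1) (M24.inv_mem hσ), ?_⟩
    show σ (g (σ⁻¹ (pt 23))) = pt 23
    have : σ⁻¹ (pt 23) = x := by rw [Equiv.Perm.inv_eq_iff_eq, hσx]
    rw [this, hgx, hσx]
  -- an element of order 7
  have : Fact (Nat.Prime 7) := ⟨by norm_num⟩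
  have h7 : 7 ∣ Nat.card K1 := by rw [hK1card]; norm_num
  obtain ⟨x', hx'⟩ := exists_prime_orderOf_dvd_card' 7 h7
  have hx'o : orderOf (x' : Equiv.Perm GolayPt) = 7 := by rw [Subgroup.orderOf_coe]; exact hx'
  obtain ⟨τ, hτ, hτx⟩ := exists_conj_zpowers G1 7 (by rw [card_G1]; norm_num) (x' : Equiv.Perm GolayPt) z
    (hK1le x'.2) z_mem_G1 hx'o orderOf_z
  set K2 := K1.map (MulAut.conj τ).toMonoidHom with hK2
  have hK2card : Nat.card K2 = 40320 := (card_map_conj τ K1).trans hK1card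
  have hK2le : K2 ≤ G1 := by
    rintro _ ⟨g, hg, rfl⟩
    show τ * g * τ⁻¹ ∈ G1
    exact G1.mul_mem (G1.mul_mem hτ (hK1le hg)) (G1.inv_mem hτ)
  have hx2 : τ * (x' : Equiv.Perm GolayPt) * τ⁻¹ ∈ K2 := ⟨x', x'.2, rfl⟩
  have ho2 : orderOf (τ * (x' : Equiv.Perm GolayPt) * τ⁻¹) = 7 := by
    have := MulEquiv.orderOf_eq (MulAut.conj τ) (x' : Equiv.Perm GolayPt)
    rw [MulAut.conj_apply] at this
    rw [this, hx'o]
  have hzp : Subgroup.zpowers (τ * (x' : Equiv.Perm GolayPt) * τ⁻¹) = Subgroup.zpowers z := by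
    apply Subgroup.eq_of_le_of_card_ge
    · rw [Subgroup.zpowers_le]; exact hτx
    · rw [Nat.card_zpowers, Nat.card_zpowers, ho2, orderOf_z]
  have hzK2 : z ∈ K2 := by
    have h1 : z ∈ Subgroup.zpowers (τ * (x' : Equiv.Perm GolayPt) * τ⁻¹) := by
      rw [hzp]; exact Subgroup.mem_zpowers z
    exact (Subgroup.zpowers_le.2 hx2) h1
  -- the conjugating element
  have hτM : τ ∈ M24 := (mem_G1.1 hτ).1
  have hτ23 : τ (pt 23) = pt 23 := (mem_G1.1 hτ).2
  set ρ := τ * σ with hρdef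
  have hρ : ρ ∈ M24 := M24.mul_mem hτM hσ
  have hρx : ρ x = pt 23 := by
    show τ (σ x) = pt 23
    rw [hσx, hτ23]
  have hmemK : ∀ g, g ∈ K ↔ ρ * g * ρ⁻¹ ∈ K2 := by
    intro g
    have h1 : ρ * g * ρ⁻¹ = (MulAut.conj τ).toMonoidHom ((MulAut.conj σ).toMonoidHom g) := by
      show τ * σ * g * (τ * σ)⁻¹ = τ * (σ * g * σ⁻¹) * τ⁻¹
      rw [mul_inv_rev]
      simp only [mul_assoc]
    rw [h1, hK2, Subgroup.mem_map_iff_mem (MulAut.conj τ).injective, hK1,
      Subgroup.mem_map_iff_mem (MulAut.conj σ).injective]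
  have hρinv : ρ⁻¹ (pt 23) = x := by rw [Equiv.Perm.inv_eq_iff_eq, hρx]
  rcases main_pt23 K2 hK2le hK2card hzK2 with h | h
  · left
    refine ⟨ρ⁻¹ • s0, ?_, ?_, ?_⟩
    · rw [Finset.card_smul_finset, s0, card_fs]; decide
    · intro hx
      obtain ⟨q, hq, hqx⟩ := Finset.mem_smul_finset.1 hx
      have hq23 : q = pt 23 := by
        have : ρ⁻¹ q = ρ⁻¹ (pt 23) := by rw [hρinv]; exact hqx
        exact ρ⁻¹.injective this
      rw [hq23] at hq
      revert hq
      decide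
    · intro g
      rw [hmemK g, h]
      exact conj_mem_iff hρ hρx s0 g
  · right
    refine ⟨ρ⁻¹ • o0, smul_mem_octads (M24.inv_mem hρ) o0_mem, ?_, ?_⟩
    · rw [Finset.mem_smul_finset]
      exact ⟨pt 23, pt23_mem_o0, hρinv⟩
    · intro g
      rw [hmemK g, h]
      exact conj_mem_iff hρ hρx o0 g

end Cfsg.Agent.Lib.Helper8.M23Idx
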