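import Cfsg.Agent.Lib.Helper8.M24Search

/-!
# The normaliser of an element of order 7 in the stabiliser of a point of `M24`

`z` is an element of order 7 of `M24` fixing the points `7`, `13` and `∞`, with three cycles of length 7.  An element
`g` of `M24` fixing `∞` with `g z = z ^ k g` permutes the fixed points `7`, `13` and is determined by `k`, these two
images and the images of one point in each cycle; a staged search (3354 candidates) leaves 42 elements.  One of them is
the involution `t`.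
-/

set_option autoImplicit false

namespace Cfsg.Agent.Lib.Helper8.M23Idx

open Cfsg Cfsg.Agent.Lib.Helper6.Golay Cfsg.Agent.Lib.Helper8.M22Idx Cfsg.Agent.Lib.Helper8.M24Search

/-- the element of order 7 -/
def zl : List ℕ := [4, 15, 1, 21, 12, 9, 0, 7, 20, 2, 6, 17, 14, 13, 16, 3, 10, 19, 22, 8, 18, 5, 11, 23]

def zil : List ℕ := [6, 2, 9, 15, 0, 21, 10, 7, 19, 5, 16, 22, 4, 13, 12, 1, 14, 11, 20, 17, 8, 3, 18, 23]

/-- the involution normalising it -/
def tl : List ℕ := [21, 16, 14, 6, 5, 4, 3, 13, 8, 12, 15, 11, 9, 7, 2, 10, 1, 17, 18, 19, 20, 0, 22, 23]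

/-- the powers of the element, packed -/
def zZP : ℕ := 5399164401761501197023742814785634352538444713534432051969391617268783635854333238974549529165207803145266275889719227189683281141202869631351840297150209848322257198289707224894371269131451233376340562545194466783141289679131849094237105467459232696352

def zJ : ℕ := 4017425110796037916404302197364736

def zC : ℕ := 6659173060315014662714842890244227

def zzpowF (m v : ℕ) : ℕ := getP 5 zZP (24 * m + v)

def zjF (i : ℕ) : ℕ := getP 5 zJ i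

def zcF (i : ℕ) : ℕ := getP 5 zC i

def zrepL : List ℕ := [23, 7, 13, 0, 1, 8]

def zgood : List (List ℕ) := [[1, 23, 7, 13, 0, 1, 8],
  [1, 23, 7, 13, 4, 15, 20],
  [1, 23, 7, 13, 6, 2, 19],
  [1, 23, 7, 13, 10, 9, 17],
  [1, 23, 7, 13, 12, 3, 18],
  [1, 23, 7, 13, 14, 21, 22],
  [1, 23, 7, 13, 16, 5, 11],
  [1, 23, 13, 7, 1, 4, 11],
  [1, 23, 13, 7, 2, 0, 22],
  [1, 23, 13, 7, 3, 14, 19],
  [1, 23, 13, 7, 5, 10, 20],
  [1, 23, 13, 7, 9, 6, 18],
  [1, 23, 13, 7, 15, 12, 17],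
  [1, 23, 13, 7, 21, 16, 8],
  [2, 23, 7, 13, 0, 5, 22],
  [2, 23, 7, 13, 4, 9, 11],
  [2, 23, 7, 13, 6, 21, 18],
  [2, 23, 7, 13, 10, 3, 20],
  [2, 23, 7, 13, 12, 2, 17],
  [2, 23, 7, 13, 14, 1, 19],
  [2, 23, 7, 13, 16, 15, 8],
  [2, 23, 13, 7, 1, 10, 8],
  [2, 23, 13, 7, 2, 16, 19],
  [2, 23, 13, 7, 3, 0, 18],
  [2, 23, 13, 7, 5, 12, 11],
  [2, 23, 13, 7, 9, 14, 17],
  [2, 23, 13, 7, 15, 6, 20],
  [2, 23, 13, 7, 21, 4, 22],
  [4, 23, 7, 13, 0, 9, 18],
  [4, 23, 7, 13, 4, 2, 22],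
  [4, 23, 7, 13, 6, 5, 20],
  [4, 23, 7, 13, 10, 21, 8],
  [4, 23, 7, 13, 12, 1, 11],
  [4, 23, 7, 13, 14, 15, 17],
  [4, 23, 7, 13, 16, 3, 19],
  [4, 23, 13, 7, 1, 6, 19],
  [4, 23, 13, 7, 2, 10, 17],
  [4, 23, 13, 7, 3, 4, 20],
  [4, 23, 13, 7, 5, 14, 22],
  [4, 23, 13, 7, 9, 16, 11],
  [4, 23, 13, 7, 15, 0, 8],
  [4, 23, 13, 7, 21, 12, 18]]

def zstages : List (List ℕ × List ℕ × List ℕ) := [([23], [], []),
  ([7, 13], [], []),
  ([7, 13], [], [8396928]),
  ([0, 1, 2, 3, 4, 5, 6, 7, 8, 9, 10, 11, 12, 13, 14, 15, 16, 17, 18, 19, 20, 21, 22, 23], [95313], []),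
  ([0, 1, 2, 3, 4, 5, 6, 7, 8, 9, 10, 11, 12, 13, 14, 15, 16, 17, 18, 19, 20, 21, 22, 23], [118953], []),
  ([0, 1, 2, 3, 4, 5, 6, 7, 8, 9, 10, 11, 12, 13, 14, 15, 16, 17, 18, 19, 20, 21, 22, 23], [13062145], [])]

def z : Equiv.Perm GolayPt where
  toFun := lfun zl
  invFun := lfun zil
  left_inv := by intro p; revert p; decide
  right_inv := by intro p; revert p; decide

def t : Equiv.Perm GolayPt where
  toFun := lfun tl
  invFun := lfun tl
  left_inv := by intro p; revert p; decide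
  right_inv := by intro p; revert p; decide

theorem z_coe : ⇑z = lfun zl := rfl
theorem t_coe : ⇑t = lfun tl := rfl

theorem z_mem : z ∈ M24 := mem_M24_of_basisTest (l := zl) (by decide) z_coe (by decide +kernel)
theorem t_mem : t ∈ M24 := mem_M24_of_basisTest (l := tl) (by decide) t_coe (by decide +kernel)

theorem z_pow_seven : z ^ 7 = 1 := by
  apply Equiv.ext
  intro p; revert p; decide

theorem z_ne_one : z ≠ 1 := by
  intro h
  have := congrFun (congrArg (fun g : Equiv.Perm GolayPt => ⇑g) h) (pt 0)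
  revert this; decide

theorem orderOf_z : orderOf z = 7 :=
  haveI : Fact (Nat.Prime 7) := ⟨by norm_num⟩
  orderOf_eq_prime z_pow_seven z_ne_one

theorem z_fix23 : z (pt 23) = pt 23 := by decide
theorem z_fix7 : z (pt 7) = pt 7 := by decide
theorem z_fix13 : z (pt 13) = pt 13 := by decide
theorem t_fix23 : t (pt 23) = pt 23 := by decide

/-- the table of the powers of `z` -/
theorem z_tab : ∀ (m : Fin 7) (v : Fin 24), idx ((z ^ (m : ℕ)) (pt v)) = zzpowF m v := by decide

/-- every point is a power of `z` applied to the representative of its cycle -/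
theorem z_dec : ∀ i : Fin 24, pt i = (z ^ (zjF i)) (pt (zrepL.getD (zcF i) 0)) := by decide

theorem z_rep : ∀ i : Fin 24, zrepL.getD (zcF i) 0 < 24 ∧ zcF i < zrepL.length := by decide

/-- the fixed points of the nontrivial powers of `z` -/
theorem z_fixed : ∀ (k : Fin 7) (v : Fin 24), (k : ℕ) ≠ 0 → zzpowF k v = v → (v : ℕ) = 7 ∨ (v : ℕ) = 13 ∨ (v : ℕ) = 23 := by
  decide

theorem z_tests : testsOK zcF 0 zstages = true := by decide +kernel

theorem z_search : search 7 zzpowF zjF zcF zgood [1, 2, 3, 4, 5, 6] zstages = true := by decide +kernel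

/-- the encodings of the 42 elements -/
def LZ : List (List ℕ) := zgood.map fun l => (List.range 24).map (candF 7 zzpowF zjF zcF (l.headD 0) l.tail)

/-- the image of a fixed point of `z` other than `∞` -/
theorem idx_fixed_image {g : Equiv.Perm GolayPt} (h23 : g (pt 23) = pt 23) {k : ℕ} (hk1 : 0 < k) (hk2 : k < 7)
    (hk : g * z = z ^ k * g) {q : GolayPt} (hq : z q = q) (hq23 : q ≠ pt 23) :
    idx (g q) ∈ [7, 13] := by
  have h1 := pow_apply_of_fixed hk hq
  have h2 := z_tab ⟨k, hk2⟩ ⟨idx (g q), idx_lt _⟩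
  simp only [] at h2
  rw [pt_idx, h1] at h2
  have h3 := z_fixed ⟨k, hk2⟩ ⟨idx (g q), idx_lt _⟩ (by simpa using hk1.ne') h2.symm
  simp only [] at h3
  rcases h3 with h | h | h
  · rw [h]; simp
  · rw [h]; simp
  · exfalso
    apply hq23
    apply g.injective
    rw [h23, ← pt_idx (g q), h]

theorem enc_mem_LZ {g : Equiv.Perm GolayPt} (hg : g ∈ M24) (h23 : g (pt 23) = pt 23)
    {k : ℕ} (hk1 : 0 < k) (hk2 : k < 7) (hk : g * z = z ^ k * g) : enc g ∈ LZ := by
  have hdet := enc_eq_candF (n := 7) (by norm_num) z_pow_seven hk zzpowF zjF zcF zrepL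
    (fun m hm v hv => z_tab ⟨m, hm⟩ ⟨v, hv⟩) (fun i hi => z_dec ⟨i, hi⟩) (fun i hi => z_rep ⟨i, hi⟩)
  have hkm : k ∈ [1, 2, 3, 4, 5, 6] := by
    interval_cases k <;> simp
  have e : ∀ i, i < 24 → (enc g).getD i 0 = idx (g (pt i)) := fun i hi => enc_getD g hi
  have h7 : idx (g (pt 7)) ∈ [7, 13] := idx_fixed_image h23 hk1 hk2 hk z_fix7 (by decide)
  have h13 : idx (g (pt 13)) ∈ [7, 13] := idx_fixed_image h23 hk1 hk2 hk z_fix13 (by decide)
  obtain ⟨hgood, henc⟩ := search_sound z_search z_tests hg hkm (zrepL.map fun r => (enc g).getD r 0)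
    (by rfl) (by
      intro j hj
      have hj6 : j < 6 := hj
      interval_cases j
      · show (enc g).getD 23 0 ∈ [23]
        rw [e 23 (by norm_num), h23]; decide
      · show (enc g).getD 7 0 ∈ [7, 13]
        rw [e 7 (by norm_num)]; exact h7
      · show (enc g).getD 13 0 ∈ [7, 13]
        rw [e 13 (by norm_num)]; exact h13
      · show (enc g).getD 0 0 ∈ List.range 24
        rw [e 0 (by norm_num), List.mem_range]; exact idx_lt _
      · show (enc g).getD 1 0 ∈ List.range 24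
        rw [e 1 (by norm_num), List.mem_range]; exact idx_lt _
      · show (enc g).getD 8 0 ∈ List.range 24
        rw [e 8 (by norm_num), List.mem_range]; exact idx_lt _) hdet
  rw [henc, LZ, List.mem_map]
  exact ⟨_, hgood, rfl⟩

/-- the elements of `M24` fixing `∞` and normalising `⟨z⟩` -/
def SZ : Set (Equiv.Perm GolayPt) :=
  {g | g ∈ M24 ∧ g (pt 23) = pt 23 ∧ g * z * g⁻¹ ∈ Subgroup.zpowers z}

theorem ncard_SZ_le : SZ.ncard ≤ 42 := by
  have h1 : ∀ g ∈ SZ, enc g ∈ (↑LZ.toFinset : Set (List ℕ)) := by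
    rintro g ⟨hg, h23, hn⟩
    obtain ⟨k, hk1, hk2, hk⟩ := exists_exponent (by norm_num : 1 < 7) orderOf_z hn
    rw [Finset.mem_coe, List.mem_toFinset]
    exact enc_mem_LZ hg h23 hk1 hk2 hk
  have h2 := Set.ncard_le_ncard_of_injOn enc h1 (enc_injective.injOn) (Finset.finite_toSet _)
  rw [Set.ncard_coe_finset] at h2
  exact h2.trans ((List.toFinset_card_le LZ).trans (by rw [LZ, List.length_map]; decide))

theorem t_mem_SZ : t ∈ SZ := by
  refine ⟨t_mem, t_fix23, ?_⟩
  have h : t * z * t⁻¹ = z := by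
    rw [mul_inv_eq_iff_eq_mul]
    apply Equiv.ext
    intro p; revert p; decide
  rw [h]
  exact Subgroup.mem_zpowers z

end Cfsg.Agent.Lib.Helper8.M23Idx
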