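import Cfsg.Agent.Lib.Helper8.M23Idx.NormZ
import Cfsg.Agent.Lib.Helper6.GolaySteiner
import Cfsg.Agent.Lib.Helper6.GolayBSGS

/-!
# The orbit of the point `7` under a subgroup of the point stabiliser containing `z` and `t`

The group `⟨z, t⟩` has the orbits `{∞}`, `{7, 13}`, a set of seven points (which with `∞` forms the octad `o0`) and a
set of fourteen points on the 24 points.  Hence the orbit of `7` under a subgroup `K` of the stabiliser of `∞`
containing `z` and `t` has 2, 9, 16 or 23 points; if `23 ∤ |K|` then `K` stabilises the duad `{7, 13}` or the octad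
`o0` (in the second case because `o0` is the only octad in the union of the orbit and `∞`).
-/

set_option autoImplicit false

namespace Cfsg.Agent.Lib.Helper8.M23Idx

open Cfsg Cfsg.Agent.Lib.Helper6.Golay Cfsg.Agent.Lib.Helper6.PermChain
open scoped Pointwise

/-- the stabiliser of `∞` in `M24` -/
abbrev G1 : Subgroup (Equiv.Perm GolayPt) := fixL M24 [pt 23]

theorem mem_G1 {g : Equiv.Perm GolayPt} : g ∈ G1 ↔ g ∈ M24 ∧ g (pt 23) = pt 23 := by
  rw [mem_fixL]
  simp

theorem card_G1 : Nat.card G1 = 10200960 := card_fixL_single _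

/-- the duad `{7, 13}` -/
def s0 : Finset GolayPt := fs 8320

/-- the octad formed by `∞` and the cycle of `8` -/
def o0 : Finset GolayPt := fs 14551296

theorem o0_mem : o0 ∈ octads := fs_mem_octads (by decide +kernel) (by decide +kernel)

/-- the representatives of the orbits of `⟨z, t⟩` -/
def RL : List ℕ := [0, 0, 0, 0, 0, 0, 0, 7, 8, 0, 0, 8, 0, 7, 0, 0, 0, 8, 8, 8, 8, 0, 8, 23]

def JL : List ℕ := [0, 4, 3, 6, 1, 1, 6, 0, 0, 2, 5, 4, 2, 0, 3, 5, 4, 5, 2, 6, 1, 0, 3, 0]

def EL : List ℕ := [0, 1, 1, 1, 0, 1, 0, 0, 0, 1, 0, 0, 0, 1, 0, 1, 0, 0, 0, 0, 0, 1, 0, 0]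

theorem decomp : ∀ i : Fin 24, pt i = (z ^ (JL.getD i 0) * t ^ (EL.getD i 0)) (pt (RL.getD i 0)) := by decide

theorem RL_cases : ∀ i : Fin 24,
    RL.getD i 0 = 7 ∨ RL.getD i 0 = 8 ∨ RL.getD i 0 = 0 ∨ RL.getD i 0 = 23 := by decide

/-- the union of the orbit of `7` with those of `8` and `0` as indicated -/
def cmask (c8 c0 : Bool) : ℕ := 8320 + (if c8 then 6162688 else 0) + (if c0 then 2217599 else 0)

theorem cmask_spec : ∀ (c8 c0 : Bool) (i : Fin 24), (cmask c8 c0).testBit i =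
    (RL.getD i 0 == 7 || (RL.getD i 0 == 8 && c8) || (RL.getD i 0 == 0 && c0)) := by decide

theorem mem_orbit_sub {K : Subgroup (Equiv.Perm GolayPt)} {q p : GolayPt} :
    p ∈ MulAction.orbit K q ↔ ∃ g ∈ K, g q = p := by
  constructor
  · rintro ⟨g, rfl⟩
    exact ⟨g.1, g.2, rfl⟩
  · rintro ⟨g, hg, rfl⟩
    exact ⟨⟨g, hg⟩, rfl⟩

theorem orbit_inv {K : Subgroup (Equiv.Perm GolayPt)} {q : GolayPt} {g : Equiv.Perm GolayPt} (hg : g ∈ K)
    (p : GolayPt) : g p ∈ MulAction.orbit K q ↔ p ∈ MulAction.orbit K q := by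
  rw [mem_orbit_sub, mem_orbit_sub]
  constructor
  · rintro ⟨h, hh, e⟩
    refine ⟨g⁻¹ * h, K.mul_mem (K.inv_mem hg) hh, ?_⟩
    rw [Equiv.Perm.mul_apply, e]
    exact Equiv.symm_apply_apply g p
  · rintro ⟨h, hh, rfl⟩
    exact ⟨g * h, K.mul_mem hg hh, rfl⟩

theorem orbit_card_dvd (K : Subgroup (Equiv.Perm GolayPt)) (p : GolayPt) :
    Nat.card (MulAction.orbit K p) ∣ Nat.card K := by
  have h := Nat.card_congr (MulAction.orbitProdStabilizerEquivGroup K p)
  rw [Nat.card_prod] at h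
  exact ⟨_, h.symm⟩

/-- the orbit of `7` is one of four sets -/
theorem orbit_pt7 (K : Subgroup (Equiv.Perm GolayPt)) (hK : K ≤ G1) (hz : z ∈ K) (ht : t ∈ K) :
    ∃ m, (m = 8320 ∨ m = 6171008 ∨ m = 2225919 ∨ m = 8388607) ∧
      ∀ p, p ∈ MulAction.orbit K (pt 7) ↔ p ∈ fs m := by
  have h7 : pt 7 ∈ MulAction.orbit K (pt 7) := MulAction.mem_orbit_self _
  have h23 : pt 23 ∉ MulAction.orbit K (pt 7) := by
    rw [mem_orbit_sub]
    rintro ⟨g, hg, e⟩
    have h1 := (mem_G1.1 (hK hg)).2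
    have h2 : g (pt 7) = g (pt 23) := by rw [e, h1]
    exact absurd (g.injective h2) (by decide)
  have hrep : ∀ p, p ∈ MulAction.orbit K (pt 7) ↔ pt (RL.getD (idx p) 0) ∈ MulAction.orbit K (pt 7) := by
    intro p
    have hd := decomp ⟨idx p, idx_lt p⟩
    simp only [] at hd
    rw [pt_idx] at hd
    have hw : z ^ (JL.getD (idx p) 0) * t ^ (EL.getD (idx p) 0) ∈ K :=
      K.mul_mem (K.pow_mem hz _) (K.pow_mem ht _)
    conv_lhs => rw [hd]
    exact orbit_inv hw _
  have key : ∀ (c8 c0 : Bool), (pt 8 ∈ MulAction.orbit K (pt 7) ↔ c8 = true) →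
      (pt 0 ∈ MulAction.orbit K (pt 7) ↔ c0 = true) →
      ∀ p, p ∈ MulAction.orbit K (pt 7) ↔ p ∈ fs (cmask c8 c0) := by
    intro c8 c0 h8 h0 p
    rw [mem_fs, hrep p]
    have hs := cmask_spec c8 c0 ⟨idx p, idx_lt p⟩
    simp only [] at hs
    rw [hs]
    rcases RL_cases ⟨idx p, idx_lt p⟩ with h | h | h | h <;> simp only [] at h <;> rw [h]
    · simp [h7]
    · simp [h8]
    · simp [h0]
    · simp [h23]
  by_cases b8 : pt 8 ∈ MulAction.orbit K (pt 7) <;> by_cases b0 : pt 0 ∈ MulAction.orbit K (pt 7)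
  · exact ⟨_, Or.inr (Or.inr (Or.inr rfl)), key true true (iff_of_true b8 rfl) (iff_of_true b0 rfl)⟩
  · exact ⟨_, Or.inr (Or.inl rfl), key true false (iff_of_true b8 rfl) (iff_of_false b0 (by simp))⟩
  · exact ⟨_, Or.inr (Or.inr (Or.inl rfl)), key false true (iff_of_false b8 (by simp)) (iff_of_true b0 rfl)⟩
  · exact ⟨_, Or.inl rfl, key false false (iff_of_false b8 (by simp)) (iff_of_false b0 (by simp))⟩

/-- a subgroup preserves its orbits -/
theorem smul_fs_eq_of_orbit {K : Subgroup (Equiv.Perm GolayPt)} {q : GolayPt} {m : ℕ}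
    (h : ∀ p, p ∈ MulAction.orbit K q ↔ p ∈ fs m) {g : Equiv.Perm GolayPt} (hg : g ∈ K) : g • fs m = fs m := by
  apply Finset.eq_of_subset_of_card_le
  · intro p hp
    obtain ⟨r, hr, rfl⟩ := Finset.mem_smul_finset.1 hp
    rw [← h] at hr ⊢
    exact (orbit_inv hg r).2 hr
  · rw [Finset.card_smul_finset]

/-- **a subgroup of order 40320 of the stabiliser of `∞` containing `z` and `t` stabilises the duad or the octad** -/
theorem core (K : Subgroup (Equiv.Perm GolayPt)) (hK : K ≤ G1) (hcard : Nat.card K = 40320)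
    (hz : z ∈ K) (ht : t ∈ K) : (∀ g ∈ K, g • s0 = s0) ∨ (∀ g ∈ K, g • o0 = o0) := by
  obtain ⟨m, hm, horb⟩ := orbit_pt7 K hK hz ht
  rcases hm with rfl | rfl | rfl | rfl
  · left
    intro g hg
    exact smul_fs_eq_of_orbit horb hg
  · right
    intro g hg
    have h9 := smul_fs_eq_of_orbit horb hg
    have h23 : g (pt 23) = pt 23 := (mem_G1.1 (hK hg)).2
    have hsub : o0 ⊆ fs 14559616 := by decide
    have h10 : g • fs 14559616 = fs 14559616 := by
      have e : fs 14559616 = fs 6171008 ∪ {pt 23} := by decide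
      rw [e, Finset.smul_finset_union, h9, Finset.smul_finset_singleton]
      congr 2
    have hgo : g • o0 ⊆ fs 14559616 := by
      rw [← h10]
      exact Finset.smul_finset_subset_smul_finset hsub
    have hoct : g • o0 ∈ octads := smul_mem_octads (mem_G1.1 (hK hg)).1 o0_mem
    have hunion : (g • o0 ∪ o0).card ≤ 10 :=
      (Finset.card_le_card (Finset.union_subset hgo hsub)).trans (by rw [card_fs]; decide)
    have hinter : 6 ≤ (g • o0 ∩ o0).card := by
      have := Finset.card_union_add_card_inter (g • o0) o0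
      rw [hoct.2, o0_mem.2] at this
      omega
    obtain ⟨s, hs, hsc⟩ := Finset.exists_subset_card_eq (show 5 ≤ (g • o0 ∩ o0).card by omega)
    exact octad_unique hoct o0_mem hsc (hs.trans Finset.inter_subset_left) (hs.trans Finset.inter_subset_right)
  · right
    intro g hg
    apply Finset.eq_of_subset_of_card_le
    · intro p hp
      obtain ⟨r, hr, rfl⟩ := Finset.mem_smul_finset.1 hp
      have hr' : r ∉ MulAction.orbit K (pt 7) := by
        rw [horb]
        exact (by decide : ∀ q : GolayPt, q ∈ o0 → q ∉ fs 2225919) r hr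
      have h1 : g r ∉ MulAction.orbit K (pt 7) := fun h => hr' ((orbit_inv hg r).1 h)
      rw [horb] at h1
      exact (by decide : ∀ q : GolayPt, q ∉ fs 2225919 → q ∈ o0) _ h1
    · rw [Finset.card_smul_finset]
  · exfalso
    have hdvd := orbit_card_dvd K (pt 7)
    have hc : Nat.card (MulAction.orbit K (pt 7)) = 23 := by
      have e : MulAction.orbit K (pt 7) = ↑(fs 8388607) := by
        ext p
        rw [horb]
        rfl
      rw [e, Nat.card_coe_set_eq, Set.ncard_coe_finset, card_fs]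
      decide
    rw [hc, hcard] at hdvd
    omega

end Cfsg.Agent.Lib.Helper8.M23Idx
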