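import Cfsg.Agent.Lib.Helper8.M23Idx.Orbit
import Cfsg.Agent.Lib.Helper6.GolayRankGlue
import Cfsg.Agent.Lib.Helper6.GolayDodecad

/-!
# The orders of the stabilisers of a duad and of an octad in the stabiliser of a point of `M24`

By the orbit–stabiliser theorem and the 5-fold transitivity of `M24`, the stabiliser of the duad `{7, 13}` in the
stabiliser `G1` of `∞` has at most `10200960 / 253 = 40320` elements, and so has the stabiliser of the octad `o0 ∋ ∞`
(of index at least 8 in the stabiliser of `o0` in `M24`, which has order 322560).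
-/

set_option autoImplicit false

namespace Cfsg.Agent.Lib.Helper8.M23Idx

open Cfsg Cfsg.Agent.Lib.Helper6.Golay Cfsg.Agent.Lib.Helper6.PermChain
open scoped Pointwise

theorem map_subtype_stabilizer {Γ : Type*} [Group Γ] {X : Type*} [MulAction Γ X] (G : Subgroup Γ) (a : X) :
    (MulAction.stabilizer G a).map G.subtype = G ⊓ MulAction.stabilizer Γ a := by
  ext g
  constructor
  · rintro ⟨h, hh, rfl⟩
    exact ⟨h.2, hh⟩
  · rintro ⟨hg, hs⟩
    exact ⟨⟨g, hg⟩, hs, rfl⟩

/-- the orbit–stabiliser inequality -/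
theorem card_mul_card_inf_stabilizer_le {Γ : Type*} [Group Γ] {X : Type*} [MulAction Γ X]
    (G : Subgroup Γ) [Finite G] (a : X) (L : Finset X) (hL : ∀ b ∈ L, ∃ g ∈ G, g • a = b) :
    L.card * Nat.card (G ⊓ MulAction.stabilizer Γ a : Subgroup Γ) ≤ Nat.card G := by
  have h := Nat.card_congr (MulAction.orbitProdStabilizerEquivGroup G a)
  rw [Nat.card_prod] at h
  have h1 : L.card ≤ Nat.card (MulAction.orbit G a) := by
    have hsub : (L : Set X) ⊆ MulAction.orbit G a := by
      intro b hb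
      obtain ⟨g, hg, rfl⟩ := hL b hb
      exact ⟨⟨g, hg⟩, rfl⟩
    have hfin : (MulAction.orbit G a).Finite := Set.finite_range _
    have h2 := Set.ncard_le_ncard hsub hfin
    rw [Set.ncard_coe_finset] at h2
    rw [Nat.card_coe_set_eq]
    exact h2
  have h2 : Nat.card (MulAction.stabilizer G a) = Nat.card (G ⊓ MulAction.stabilizer Γ a : Subgroup Γ) := by
    rw [← map_subtype_stabilizer, Subgroup.card_map_of_injective G.subtype_injective]
  rw [← h2, ← h]
  exact Nat.mul_le_mul_right _ h1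

theorem s0_eq : s0 = {pt 7, pt 13} := by decide

theorem card_univ_golayPt : (Finset.univ : Finset GolayPt).card = 24 := by decide

/-- the stabiliser of the duad in the stabiliser of `∞` has at most 40320 elements -/
theorem card_stab_s0_le :
    Nat.card (G1 ⊓ MulAction.stabilizer (Equiv.Perm GolayPt) s0 : Subgroup (Equiv.Perm GolayPt)) ≤ 40320 := by
  have h := card_mul_card_inf_stabilizer_le G1 s0 ((Finset.univ.erase (pt 23)).powersetCard 2) (by
    intro b hb
    rw [Finset.mem_powersetCard] at hb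
    obtain ⟨hsub, hc⟩ := hb
    obtain ⟨p, q, hpq, rfl⟩ := Finset.card_eq_two.1 hc
    have hp : p ≠ pt 23 := Finset.ne_of_mem_erase (hsub (by simp))
    have hq : q ≠ pt 23 := Finset.ne_of_mem_erase (hsub (by simp))
    let e1 : Fin 3 ↪ GolayPt := ⟨![pt 23, pt 7, pt 13], by
      intro i j h; fin_cases i <;> fin_cases j <;> first | rfl | (exfalso; revert h; decide)⟩
    let e2 : Fin 3 ↪ GolayPt := ⟨![pt 23, p, q], by
      intro i j h; fin_cases i <;> fin_cases j <;> simp_all [eq_comm]⟩
    obtain ⟨g, hg, hge⟩ := exists_M24_map (by norm_num) e1 e2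
    have h0 : g (pt 23) = pt 23 := hge 0
    have h1 : g (pt 7) = p := hge 1
    have h2 : g (pt 13) = q := hge 2
    refine ⟨g, mem_G1.2 ⟨hg, h0⟩, ?_⟩
    rw [s0_eq, Finset.smul_finset_insert, Finset.smul_finset_singleton]
    show ({g (pt 7), g (pt 13)} : Finset GolayPt) = {p, q}
    rw [h1, h2])
  rw [Finset.card_powersetCard, Finset.card_erase_of_mem (Finset.mem_univ _), card_univ_golayPt, card_G1] at h
  have h253 : Nat.choose (24 - 1) 2 = 253 := by decide
  rw [h253] at h
  omega

/-- the stabiliser of the octad `o0` in `M24`, as a group of permutations -/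
theorem card_stab_o0 :
    Nat.card (M24 ⊓ MulAction.stabilizer (Equiv.Perm GolayPt) o0 : Subgroup (Equiv.Perm GolayPt)) = 322560 := by
  rw [← map_subtype_stabilizer, Subgroup.card_map_of_injective M24.subtype_injective]
  exact card_stabilizer_octad o0_mem

theorem pt23_mem_o0 : pt 23 ∈ o0 := by decide

/-- the stabiliser of the octad in the stabiliser of `∞` has at most 40320 elements -/
theorem card_stab_o0_le :
    Nat.card (G1 ⊓ MulAction.stabilizer (Equiv.Perm GolayPt) o0 : Subgroup (Equiv.Perm GolayPt)) ≤ 40320 := by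
  have h := card_mul_card_inf_stabilizer_le (M24 ⊓ MulAction.stabilizer (Equiv.Perm GolayPt) o0) (pt 23) o0 (by
    intro b hb
    obtain ⟨t1, ht1, ht1o, ht1p⟩ := exists_M24_octad_point_in o0_mem pt23_mem_o0
    obtain ⟨t2, ht2, ht2o, ht2p⟩ := exists_M24_octad_point_in o0_mem hb
    refine ⟨t2 * t1⁻¹, Subgroup.mem_inf.2 ⟨M24.mul_mem ht2 (M24.inv_mem ht1), ?_⟩, ?_⟩
    · rw [MulAction.mem_stabilizer_iff, mul_smul]
      have : t1⁻¹ • o0 = fs octad0 := by rw [inv_smul_eq_iff, ht1o]
      rw [this, ht2o]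
    · show (t2 * t1⁻¹) (pt 23) = b
      rw [Equiv.Perm.mul_apply]
      have : t1⁻¹ (pt 23) = pt 23 := by
        rw [Equiv.Perm.inv_eq_iff_eq, ht1p]
      rw [this, ht2p])
  rw [card_stab_o0, o0_mem.2] at h
  have e : (G1 ⊓ MulAction.stabilizer (Equiv.Perm GolayPt) o0 : Subgroup (Equiv.Perm GolayPt)) =
      (M24 ⊓ MulAction.stabilizer (Equiv.Perm GolayPt) o0) ⊓ MulAction.stabilizer (Equiv.Perm GolayPt) (pt 23) := by
    ext g
    simp only [Subgroup.mem_inf, mem_G1, MulAction.mem_stabilizer_iff]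
    constructor
    · rintro ⟨⟨h1, h2⟩, h3⟩
      exact ⟨⟨h1, h3⟩, h2⟩
    · rintro ⟨⟨h1, h3⟩, h2⟩
      exact ⟨⟨h1, h2⟩, h3⟩
  rw [e]
  omega

end Cfsg.Agent.Lib.Helper8.M23Idx
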